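import Mathlib

set_option autoImplicit false

/-! S3620 (Marggraf): the 3-cycle lemma T3 (helper11). -/

namespace Cfsg.Agent.Lib.Helper11.MG

open Equiv

variable {Om : Type*} [DecidableEq Om]

omit [DecidableEq Om] in
theorem T3_ais (f : Equiv.Perm Om) (x : Om) : f (f⁻¹ x) = x := f.apply_symm_apply x

omit [DecidableEq Om] in
theorem T3_ias (f : Equiv.Perm Om) (x : Om) : f⁻¹ (f x) = x := f.symm_apply_apply x

/-- `k⁻¹ (g k g⁻¹)` is the 3-cycle `(k⁻¹ a, g a, a)` if `g` fixes `supp k - {a}` pointwise and moves `a` out of `supp k`. -/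
theorem T3_eq (k g : Equiv.Perm Om) (a : Om) (ha : k a ≠ a)
    (hg : ∀ x, k x ≠ x → x ≠ a → g x = x) (hga : k (g a) = g a) :
    k⁻¹ * (g * k * g⁻¹) = swap (k⁻¹ a) a * swap (k⁻¹ a) (g a) := by
  have hka : k⁻¹ a ≠ a := by
    intro h
    apply ha
    have := congrArg k h
    rw [T3_ais] at this
    exact this.symm
  have hgaa : g a ≠ a := by
    intro h
    rw [h] at hga
    exact ha hga
  have hkga : k⁻¹ (g a) = g a := by
    rw [Perm.inv_eq_iff_eq, hga]
  have hgk : g a ≠ k⁻¹ a := by
    intro h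
    have h1 : k (k⁻¹ a) = k⁻¹ a := by rw [← h]; exact hga
    rw [T3_ais] at h1
    exact hka h1.symm
  -- `g⁻¹ a` is fixed by `k`
  have hy : k (g⁻¹ a) = g⁻¹ a := by
    by_contra hne
    by_cases hya : g⁻¹ a = a
    · have : g a = a := by
        have := congrArg g hya
        rw [T3_ais] at this
        exact this.symm
      exact hgaa this
    · have h1 := hg _ hne hya
      rw [T3_ais] at h1
      exact hya h1.symm
  ext x
  simp only [Perm.mul_apply]
  by_cases hx1 : x = k⁻¹ a
  · -- x = k⁻¹ a ↦ g a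
    subst hx1
    have hmoved : k (k⁻¹ a) ≠ k⁻¹ a := by
      rw [T3_ais]; exact hka.symm
    have h1 : g (k⁻¹ a) = k⁻¹ a := hg _ hmoved hka
    have h2 : g⁻¹ (k⁻¹ a) = k⁻¹ a := by rw [Perm.inv_eq_iff_eq, h1]
    rw [h2, T3_ais, hkga, swap_apply_left, swap_apply_of_ne_of_ne hgk hgaa]
  by_cases hx2 : x = g a
  · -- x = g a ↦ a
    subst hx2
    have hmoved : k (k a) ≠ k a := fun h => ha (k.injective h)
    have h1 : g (k a) = k a := hg _ hmoved ha
    rw [T3_ias, h1, T3_ias, swap_apply_right, swap_apply_left]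
  by_cases hx3 : x = a
  · -- x = a ↦ k⁻¹ a
    subst hx3
    rw [hy, T3_ais, swap_apply_of_ne_of_ne hka.symm hgaa.symm, swap_apply_right]
  · -- all the other points are fixed
    rw [swap_apply_of_ne_of_ne hx1 hx2, swap_apply_of_ne_of_ne hx1 hx3]
    by_cases hkx : k x = x
    · -- x outside the support of k
      have hgx : k (g⁻¹ x) = g⁻¹ x := by
        by_contra hne
        by_cases hya : g⁻¹ x = a
        · apply hx2
          rw [← hya, T3_ais]
        · have h1 := hg _ hne hya
          rw [T3_ais] at h1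
          rw [← h1] at hne
          exact hne hkx
      rw [hgx, T3_ais, Perm.inv_eq_iff_eq, hkx]
    · have h1 : g x = x := hg _ hkx hx3
      have h2 : g⁻¹ x = x := by rw [Perm.inv_eq_iff_eq, h1]
      have hkxa : k x ≠ a := by
        intro h
        apply hx1
        rw [← h, T3_ias]
      have hmoved : k (k x) ≠ k x := fun h => hkx (k.injective h)
      have h3 : g (k x) = k x := hg _ hmoved hkxa
      rw [h2, h3, T3_ias]

theorem T3 [Fintype Om] (k g : Equiv.Perm Om) (a : Om) (ha : k a ≠ a)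
    (hg : ∀ x, k x ≠ x → x ≠ a → g x = x) (hga : k (g a) = g a) :
    (k⁻¹ * (g * k * g⁻¹)).IsThreeCycle := by
  rw [T3_eq k g a ha hg hga]
  have hka : k⁻¹ a ≠ a := by
    intro h
    apply ha
    have := congrArg k h
    rw [T3_ais] at this
    exact this.symm
  have hgaa : g a ≠ a := by
    intro h
    rw [h] at hga
    exact ha hga
  have hgk : g a ≠ k⁻¹ a := by
    intro h
    have h1 : k (k⁻¹ a) = k⁻¹ a := by rw [← h]; exact hga
    rw [T3_ais] at h1
    exact hka h1.symm
  exact Perm.isThreeCycle_swap_mul_swap_same hka hgk.symm hgaa.symm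

end Cfsg.Agent.Lib.Helper11.MG
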